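/- `(M ⊗ N)~ ≅ M~ ⊗ N~`. -/
import Mathlib
import Groth.Agent.KFlat.SchemeStalk
import Groth.Agent.TildeKFlat.Main
import Groth.Agent.KFlat.PullTensor

set_option autoImplicit false
set_option backward.isDefEq.respectTransparency false
set_option linter.style.haveILetI false
universe u

open CategoryTheory Limits AlgebraicGeometry MonoidalCategory TensorProduct Opposite TopologicalSpace
open Groth.Agent

namespace Groth.Agent.TildeTensor

section PT

variable {X : TopCat.{u}} {O : X.Presheaf CommRingCat.{u}}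
  (P Q : PresheafOfModules.{u} (O ⋙ forget₂ CommRingCat.{u} RingCat.{u})) {U : Opens X}

theorem ptmul_smul_left (a : O.obj (op U)) (p : P.obj (op U)) (q : Q.obj (op U)) :
    KFlat.ptmul P Q (a • p) q = a • KFlat.ptmul P Q p q :=
  (TensorProduct.smul_tmul' (R := O.obj (op U)) a p q).symm

theorem ptmul_smul_right (a : O.obj (op U)) (p : P.obj (op U)) (q : Q.obj (op U)) :
    KFlat.ptmul P Q p (a • q) = a • KFlat.ptmul P Q p q :=
  TensorProduct.tmul_smul (R := O.obj (op U)) a p q

end PT

variable {R : CommRingCat.{u}} (M N : ModuleCat.{u} R)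

noncomputable abbrev T : (Spec R).Modules := CohB1.tensorMod (tilde M) (tilde N)

/-- the scalars -/
noncomputable def c (r : R) : Γ(Spec R, ⊤) :=
  ((Spec R).presheaf.map (⊤ : (Spec R).Opens).leTop.op).hom ((Scheme.ΓSpecIso R).inv.hom r)

/-- the tensor of two global sections -/
noncomputable def pairS (p : Γ(tilde M, ⊤)) (q : Γ(tilde N, ⊤)) : Γ(T M N, ⊤) :=
  (KFlat.shUnit (CohB1.tensorPre (tilde M) (tilde N))).app (op ⊤)
    (KFlat.ptmul (DCoh.toP.obj (tilde M)) (DCoh.toP.obj (tilde N)) p q)

theorem pairS_add_left (p p' : Γ(tilde M, ⊤)) (q : Γ(tilde N, ⊤)) :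
    pairS M N (p + p') q = pairS M N p q + pairS M N p' q := by
  refine Eq.trans ?_ (map_add ((KFlat.shUnit (CohB1.tensorPre (tilde M) (tilde N))).app (op ⊤)).hom _ _)
  exact congrArg _ (TensorProduct.add_tmul _ _ _)

theorem pairS_add_right (p : Γ(tilde M, ⊤)) (q q' : Γ(tilde N, ⊤)) :
    pairS M N p (q + q') = pairS M N p q + pairS M N p q' := by
  refine Eq.trans ?_ (map_add ((KFlat.shUnit (CohB1.tensorPre (tilde M) (tilde N))).app (op ⊤)).hom _ _)
  exact congrArg _ (TensorProduct.tmul_add _ _ _)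

theorem pairS_smul_left (a : Γ(Spec R, ⊤)) (p : Γ(tilde M, ⊤)) (q : Γ(tilde N, ⊤)) :
    pairS M N (a • p) q = a • pairS M N p q := by
  refine Eq.trans ?_ (((KFlat.shUnit (CohB1.tensorPre (tilde M) (tilde N))).app (op ⊤)).hom.map_smul a _)
  exact congrArg ((KFlat.shUnit (CohB1.tensorPre (tilde M) (tilde N))).app (op ⊤)).hom (ptmul_smul_left (DCoh.toP.obj (tilde M)) (DCoh.toP.obj (tilde N)) a p q)

theorem pairS_smul_right (a : Γ(Spec R, ⊤)) (p : Γ(tilde M, ⊤)) (q : Γ(tilde N, ⊤)) :
    pairS M N p (a • q) = a • pairS M N p q := by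
  refine Eq.trans ?_ (((KFlat.shUnit (CohB1.tensorPre (tilde M) (tilde N))).app (op ⊤)).hom.map_smul a _)
  exact congrArg ((KFlat.shUnit (CohB1.tensorPre (tilde M) (tilde N))).app (op ⊤)).hom (ptmul_smul_right (DCoh.toP.obj (tilde M)) (DCoh.toP.obj (tilde N)) a p q)

/-- `m ↦` its global section -/
noncomputable def sec (L : ModuleCat.{u} R) (m : L) : Γ(tilde L, ⊤) := (tilde.toOpen L ⊤).hom m

theorem sec_add (L : ModuleCat.{u} R) (m m' : L) : sec L (m + m') = sec L m + sec L m' :=
  map_add (tilde.toOpen L ⊤).hom m m'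

theorem sec_smul (L : ModuleCat.{u} R) (r : R) (m : L) : sec L (r • m) = c r • sec L m :=
  (tilde.toOpen L ⊤).hom.map_smul r m

/-- the bilinear pairing -/
noncomputable def beta : ModuleCat.of R (M ⊗[R] N) ⟶ moduleSpecΓFunctor.obj (T M N) :=
  let B : M →ₗ[R] N →ₗ[R] Γ(T M N, ⊤) :=
    { toFun := fun m =>
        { toFun := fun n => pairS M N (sec M m) (sec N n)
          map_add' := fun n n' => by rw [sec_add]; exact pairS_add_right M N _ _ _
          map_smul' := fun r n => by rw [sec_smul]; exact pairS_smul_right M N _ _ _ }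
      map_add' := fun m m' => LinearMap.ext fun n => by
        show pairS M N (sec M (m + m')) (sec N n) = _
        rw [sec_add]; exact pairS_add_left M N _ _ _
      map_smul' := fun r m => LinearMap.ext fun n => by
        show pairS M N (sec M (r • m)) (sec N n) = _
        rw [sec_smul]; exact pairS_smul_left M N _ _ _ }
  (ModuleCat.ofHom (TensorProduct.lift B) :)

/-- the comparison map -/
noncomputable def comp : tilde (ModuleCat.of R (M ⊗[R] N)) ⟶ T M N :=
  (tilde.adjunction.homEquiv _ _).symm (beta M N)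

theorem comp_app_toOpen (z : M ⊗[R] N) :
    ((comp M N).app ⊤).hom ((tilde.toOpen (ModuleCat.of R (M ⊗[R] N)) ⊤).hom z) = (beta M N).hom z := by
  have h := (tilde.adjunction.homEquiv _ _).apply_symm_apply (beta M N)
  rw [Adjunction.homEquiv_unit] at h
  exact congr($(h).hom z)

theorem lin_tmul (x : Spec R) (m : M) (n : N) :
    (DerSch.stalkFunctor (Spec R) x).map (comp M N) ((TildeKFlat.lin x (ModuleCat.of R (M ⊗[R] N))).hom (m ⊗ₜ n)) =
      (KFlat.stTensorIso (tilde M) (tilde N) x).hom.hom
        ((TildeKFlat.lin x M).hom m ⊗ₜ (TildeKFlat.lin x N).hom n) := by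
  have hL : (DerSch.stalkFunctor (Spec R) x).map (comp M N)
      ((TildeKFlat.lin x (ModuleCat.of R (M ⊗[R] N))).hom (m ⊗ₜ n)) =
      (T M N).presheaf.germ ⊤ x trivial (pairS M N (sec M m) (sec N n)) := by
    change (DerSch.stalkFunctor (Spec R) x).map (comp M N)
      ((tilde (ModuleCat.of R (M ⊗[R] N))).presheaf.germ ⊤ x trivial ((tilde.toOpen _ ⊤).hom (m ⊗ₜ n))) = _
    rw [DerSch.stalkFunctor_map_germ]
    congr 1
    exact (comp_app_toOpen M N (m ⊗ₜ n)).trans (TensorProduct.lift.tmul m n)
  rw [hL]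
  simp only [KFlat.stTensorIso, Iso.trans_hom, tensorIso_hom, ModuleCat.hom_comp, LinearMap.comp_apply]
  have h2 := KFlat.stEquiv_tmul (DCoh.toP.obj (tilde M)) (DCoh.toP.obj (tilde N)) (x := x) (W := ⊤) trivial
    ((tilde.toOpen M ⊤).hom m) ((tilde.toOpen N ⊤).hom n)
  refine Eq.trans ?_ (congrArg ((KFlat.stalkShIso x).app _).hom.hom h2.symm)
  exact (KFlat.pstMap_germ _ x (U := ⊤) trivial _).symm

theorem isIso_comp : IsIso (comp M N) := by
  refine KFlat.isIso_of_stalks _ fun x => ?_
  rw [ConcreteCategory.isIso_iff_bijective]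
  letI : Algebra R ((Spec R).presheaf.stalk x) := (TildeKFlat.toStalkRing x).toAlgebra
  let S := (Spec R).presheaf.stalk x
  let eM := LinearEquiv.ofBijective _ (TildeKFlat.bijective_cmp_app x M)
  let eN := LinearEquiv.ofBijective _ (TildeKFlat.bijective_cmp_app x N)
  let d := TensorProduct.AlgebraTensorModule.distribBaseChange R S M N
  let eT := (KFlat.stTensorIso (tilde M) (tilde N) x).toLinearEquiv
  have key : ∀ z, ((DerSch.stalkFunctor (Spec R) x).map (comp M N)).hom
      (((TildeKFlat.cmp x).app (ModuleCat.of R (M ⊗[R] N))).hom z) =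
      eT (TensorProduct.congr eM eN (d z)) := by
    intro z
    induction z using TensorProduct.induction_on with
    | zero => simp only [map_zero]
    | add a b ha hb => exact ((congrArg _ (map_add _ a b)).trans (map_add _ _ _)).trans ((congrArg₂ (· + ·) ha hb).trans (((congrArg eT ((congrArg _ (map_add d a b)).trans (map_add _ _ _))).trans (map_add eT _ _)).symm))
    | tmul s w =>
      induction w using TensorProduct.induction_on with
      | zero =>
        rw [TensorProduct.tmul_zero]
        exact ((congrArg _ (map_zero _)).trans (map_zero _)).trans ((congrArg eT ((congrArg _ (map_zero d)).trans (map_zero _))).trans (map_zero eT)).symm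
      | add a b ha hb =>
        rw [TensorProduct.tmul_add]
        exact ((congrArg _ (map_add _ _ _)).trans (map_add _ _ _)).trans ((congrArg₂ (· + ·) ha hb).trans (((congrArg eT ((congrArg _ (map_add d _ _)).trans (map_add _ _ _))).trans (map_add eT _ _)).symm))
      | tmul m n =>
        have hs : ((TildeKFlat.cmp x).app (ModuleCat.of R (M ⊗[R] N))).hom (s ⊗ₜ[R] (m ⊗ₜ[R] n)) =
            s • (TildeKFlat.lin x (ModuleCat.of R (M ⊗[R] N))).hom (m ⊗ₜ[R] n) := rfl
        refine ((congrArg _ hs).trans (map_smul _ _ _)).trans ?_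
        refine (congrArg (s • ·) (lin_tmul M N x m n)).trans ?_
        refine (map_smul eT s _).symm.trans (congrArg eT ?_)
        have hd : d (s ⊗ₜ[R] (m ⊗ₜ[R] n)) = (s ⊗ₜ[R] m) ⊗ₜ[S] ((1 : S) ⊗ₜ[R] n) := rfl
        rw [hd, TensorProduct.congr_tmul]
        let a : ((DerSch.stalkFunctor (Spec R) x).obj (tilde M) : Type u) := (TildeKFlat.lin x M).hom m
        let b : ((DerSch.stalkFunctor (Spec R) x).obj (tilde N) : Type u) := (TildeKFlat.lin x N).hom n
        refine (TensorProduct.smul_tmul' (R := S) (R' := S) s a b).trans (congrArg₂ (· ⊗ₜ[S] ·) ?_ ?_)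
        · exact (TildeKFlat.cmp_tmul x M s m).symm
        · exact ((TildeKFlat.cmp_tmul x N 1 n).trans (one_smul _ _)).symm
  have hb := TildeKFlat.bijective_cmp_app x (ModuleCat.of R (M ⊗[R] N))
  have hrhs : Function.Bijective fun z => eT (TensorProduct.congr eM eN (d z)) :=
    eT.bijective.comp ((TensorProduct.congr eM eN).bijective.comp d.bijective)
  have heq := funext key
  exact (Function.Bijective.of_comp_iff _ hb).1 (by
    show Function.Bijective fun z => ((DerSch.stalkFunctor (Spec R) x).map (comp M N)).hom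
      (((TildeKFlat.cmp x).app (ModuleCat.of R (M ⊗[R] N))).hom z)
    rw [heq]; exact hrhs)

theorem nonempty_iso : Nonempty (tilde (ModuleCat.of R (M ⊗[R] N)) ≅ T M N) :=
  ⟨@asIso _ _ _ _ (comp M N) (isIso_comp M N)⟩

end Groth.Agent.TildeTensor
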